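import Groth.Agent.Lib.DefAut26.Main
import Groth.Agent.Lib.DefGlue19.Functor
import Groth.Agent.Lib.ArtFun.SmallExt

/-!
# Automorphisms of deformations
-/

set_option autoImplicit false
set_option backward.isDefEq.respectTransparency false
universe u

noncomputable section

open CategoryTheory CategoryTheory.Limits AlgebraicGeometry ArtFun ArtFun.Art IsLocalRing

namespace GrothLib.DefAut26

variable {Λ k : Type u} [CommRing Λ] [Field k] [Algebra Λ k] {X : Scheme.{u}} {x : X ⟶ specPt k}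

theorem surjective_specRes (A : Art Λ k) : Surjective (specRes A) :=
  ⟨fun y => ⟨(IsLocalRing.closedPoint k : PrimeSpectrum k), PrimeSpectrum.ext (by
    let z : PrimeSpectrum A := (specRes A) (IsLocalRing.closedPoint k : PrimeSpectrum k)
    let y' : PrimeSpectrum A := y
    exact (IsLocalRing.eq_maximalIdeal (IsArtinianRing.isMaximal_of_isPrime z.asIdeal)).trans
      (IsLocalRing.eq_maximalIdeal (IsArtinianRing.isMaximal_of_isPrime y'.asIdeal)).symm)⟩⟩

theorem surjective_i {A : Art Λ k} (ξ : DefSch X x A) : Surjective ξ.i :=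
  MorphismProperty.of_isPullback (P := @Surjective) ξ.isPullback.flip (surjective_specRes A)

theorem setup {A : Art Λ k} (ξ : DefSch X x A) (t : A) (ht0 : t ≠ 0) (ht : t ∈ maximalIdeal A)
    (htm : ∀ a ∈ maximalIdeal A, a * t = 0) : Setup t A.res.toRingHom x ξ.f ξ.i where
  surj := A.res_surjective
  res_t := GrothLib.ArtFun.res_eq_zero_iff.2 ht
  t_mul a ha := by rw [mul_comm]; exact htm a (GrothLib.ArtFun.res_eq_zero_iff.1 ha)
  res_eq_zero a ha := (GrothLib.ArtFun.mul_eq_zero_iff ht0 htm).1 (by rw [mul_comm]; exact ha)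
  flat := ξ.flat
  isPullback := ξ.isPullback
  surjective := surjective_i ξ

/-- An automorphism restricting to the identity along a small extension is trivial modulo `t`. -/
theorem triv_of_baseChange {A B : Art Λ k} (p : A ⟶ B) (hp : Function.Surjective p) {t : A}
    (hker : RingHom.ker p.toAlgHom = Ideal.span {t}) {ξ : DefSch X x A} (e : ξ.Iso ξ)
    (he : (e.baseChange p).iso.hom = 𝟙 _) : Triv t ξ.f ξ.i e.iso.hom := by
  have hle := le_preimage (surjective_i ξ).surj e.i_hom
  have hw : pullback.fst ξ.f (specMap p) ≫ e.iso.hom = pullback.fst ξ.f (specMap p) := by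
    have h1 : (e.baseChange p).iso.hom ≫ pullback.fst ξ.f (specMap p) = pullback.fst ξ.f (specMap p) ≫ e.iso.hom :=
      DefSch.pullMap_fst e.iso.hom e.hom_f p
    rw [← h1, he, Category.id_comp]
  refine ⟨e.hom_f, e.i_hom, hle, fun V b => ?_⟩
  have hmem : (e.iso.hom.appLE V.1 V.1 (hle V.1)).hom b - b ∈
      RingHom.ker ((pullback.fst ξ.f (specMap p)).app V.1).hom := by
    rw [RingHom.mem_ker, map_sub, sub_eq_zero, Scheme.Hom.app_eq_appLE, ← ConcreteCategory.comp_apply,
      Scheme.Hom.appLE_comp_appLE]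
    simp only [hw]
  rw [ker_app ξ.f (φ := p.toAlgHom.toRingHom) hp (IsPullback.of_hasPullback ξ.f (specMap p)) V,
    show RingHom.ker p.toAlgHom.toRingHom = Ideal.span {t} from hker, Ideal.map_span, Set.image_singleton,
    Ideal.mem_span_singleton'] at hmem
  obtain ⟨c, hc⟩ := hmem
  exact ⟨c, by linear_combination -hc⟩

/-- Without vector fields deformations have no automorphisms. -/
theorem iso_hom_eq_id [QuasiSeparated x] [Subsingleton (Omega.sheaf x ⟶ Coh.structureModule X)] {A : Art Λ k}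
    (ξ : DefSch X x A) (e : ξ.Iso ξ) : e.iso.hom = 𝟙 ξ.total := by
  let P : ∀ ⦃A B : Art Λ k⦄, (B ⟶ A) → Prop := fun A B _ =>
    (∀ (ζ : DefSch X x A) (e : ζ.Iso ζ), e.iso.hom = 𝟙 _) → ∀ (ζ : DefSch X x B) (e : ζ.Iso ζ), e.iso.hom = 𝟙 _
  refine GrothLib.ArtFun.surj_induction P ?_ ?_ ?_ (toBase A) A.res_surjective ?_ ξ e
  · intro A B g hg hA ζ e
    haveI := hg
    haveI : IsIso (specMap g) := ⟨specMap (inv g),
      by rw [← Art.specMap_comp, IsIso.inv_hom_id, Art.specMap_id],
      by rw [← Art.specMap_comp, IsIso.hom_inv_id, Art.specMap_id]⟩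
    have h1 : (e.baseChange g).iso.hom ≫ pullback.fst ζ.f (specMap g) = pullback.fst ζ.f (specMap g) ≫ e.iso.hom :=
      DefSch.pullMap_fst e.iso.hom e.hom_f g
    rw [hA _ (e.baseChange g), Category.id_comp] at h1
    rw [← cancel_epi (pullback.fst ζ.f (specMap g)), ← h1, Category.comp_id]
  · intro A B p hp hA ζ e
    obtain ⟨t, hker, ht0, htm, ht⟩ := GrothLib.ArtFun.smallExt_exists_gen hp
    have hS := setup ζ t ht0 (GrothLib.ArtFun.ker_le_maximalIdeal p (hker ▸ Ideal.mem_span_singleton_self t)) htm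
    exact eq_id_of_subsingleton hS (triv_of_baseChange p hp.1 hker e (hA _ _))
  · intro A B C p q _ _ hP hQ hA
    exact hP (hQ hA)
  · intro ζ e
    haveI : IsIso ζ.i := ζ.isPullback.isIso_fst_of_isIso
    rw [← cancel_epi ζ.i, e.i_hom, Category.comp_id]

/-- A vector field gives an automorphism of the trivial deformation over the dual numbers. -/
theorem exists_iso_ne_id {k : Type u} [Field k] {X : Scheme.{u}} (x : X ⟶ specPt k) [QuasiSeparated x]
    (α : Omega.sheaf x ⟶ Coh.structureModule X) (hα0 : α ≠ 0) :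
    ∃ e : (DefSch.trivial X x (GrothLib.DefGlue19.flat_specPt x) (Art.dual k k)).Iso
      (DefSch.trivial X x (GrothLib.DefGlue19.flat_specPt x) (Art.dual k k)), e.iso.hom ≠ 𝟙 _ := by
  let ξ := DefSch.trivial X x (GrothLib.DefGlue19.flat_specPt x) (Art.dual k k)
  let t : Art.dual k k := (DualNumber.eps : DualNumber k)
  have ht0 : t ≠ 0 := fun h => one_ne_zero (congrArg TrivSqZeroExt.snd h : (1 : k) = 0)
  have htm : ∀ a ∈ maximalIdeal (Art.dual k k).carrier, a * t = 0 := fun a ha => by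
    have h0 : TrivSqZeroExt.fst (a : DualNumber k) = 0 := (GrothLib.ArtFun.res_eq_zero_iff (A := Art.dual k k)).2 ha
    obtain ⟨a', rfl⟩ : ∃ a' : DualNumber k, a' = a := ⟨a, rfl⟩
    show a' * DualNumber.eps = 0
    refine TrivSqZeroExt.ext ?_ ?_
    · show TrivSqZeroExt.fst a' * 0 = 0
      rw [mul_zero]
    · show TrivSqZeroExt.fst a' • (1 : k) + MulOpposite.op (0 : k) • TrivSqZeroExt.snd a' = 0
      rw [h0, MulOpposite.op_zero, zero_smul, zero_smul, add_zero]
  have hS := setup ξ t ht0 ((GrothLib.ArtFun.res_eq_zero_iff (A := Art.dual k k)).1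
    (show TrivSqZeroExt.fst (DualNumber.eps : DualNumber k) = 0 from rfl)) htm
  obtain ⟨E, hE⟩ := exists_equiv hS
  let a := E.symm α
  haveI : IsIso a.1 := isIso_of_triv hS a.2
  refine ⟨⟨asIso a.1, a.2.hom_f, a.2.closed⟩, fun h => hα0 ?_⟩
  have ha : a = ⟨𝟙 _, triv_id hS⟩ := Subtype.ext h
  have h0 := hE ⟨𝟙 _, triv_id hS⟩ ⟨𝟙 _, triv_id hS⟩ ⟨𝟙 _, triv_id hS⟩ (Category.id_comp _)
  rw [← ha, Equiv.apply_symm_apply] at h0
  simpa using h0

end GrothLib.DefAut26
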