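import Groth.Agent.Lib.DetRank12.Geometry
import Groth.Agent.Lib.DefLift26.Basic
import Mathlib.AlgebraicGeometry.Morphisms.Flat
import Mathlib.AlgebraicGeometry.Morphisms.ClosedImmersion

/-!
# First order steps of a deformation over a ring with a socle element

`T → Spec R` is flat with closed fibre `i : X → T` along `res : R → k`, and `t ∈ R` is killed exactly by the
kernel of `res`. On affine opens `i` is `mod (ker res)` and `t ·` identifies `O_X` with `t O_T`.
-/

set_option autoImplicit false
set_option backward.isDefEq.respectTransparency false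
universe u

noncomputable section

open CategoryTheory CategoryTheory.Limits AlgebraicGeometry

namespace GrothLib.DefAut26

open GrothLib.BlowUp (idealSheaf)

theorem ker_specMap {R S : Type u} [CommRing R] [CommRing S] (φ : R →+* S) :
    (Spec.map (CommRingCat.ofHom φ)).ker = idealSheaf (RingHom.ker φ) := by
  rw [Scheme.ker_of_isAffine, idealSheaf]
  congr 1
  have hb : Function.Bijective (Scheme.ΓSpecIso (CommRingCat.of R)).inv.hom :=
    ConcreteCategory.bijective_of_isIso _
  have hb' : Function.Injective (Scheme.ΓSpecIso (CommRingCat.of S)).inv.hom :=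
    (ConcreteCategory.bijective_of_isIso (Scheme.ΓSpecIso (CommRingCat.of S)).inv).1
  ext z
  obtain ⟨r, rfl⟩ := hb.2 z
  have h := congrArg (fun χ : CommRingCat.of R ⟶ Γ(Spec (CommRingCat.of S), ⊤) => χ.hom r)
    (Scheme.ΓSpecIso_inv_naturality (CommRingCat.ofHom φ))
  simp only [CommRingCat.hom_comp, RingHom.comp_apply, CommRingCat.hom_ofHom] at h
  rw [RingHom.mem_ker, ← h, ← map_zero (Scheme.ΓSpecIso (CommRingCat.of S)).inv.hom, hb'.eq_iff]
  constructor
  · exact fun hr => Ideal.mem_map_of_mem _ hr
  · intro hz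
    obtain ⟨r', hr', he⟩ := (Ideal.mem_map_iff_of_surjective _ hb.2).1 hz
    rw [← hb.1 he]
    exact hr'

section Str

variable {R : Type u} [CommRing R] {T : Scheme.{u}} (f : T ⟶ Spec (CommRingCat.of R))

/-- The scalars in the functions on an open subset. -/
def str (V : T.Opens) : R →+* Γ(T, V) :=
  ((Scheme.ΓSpecIso (CommRingCat.of R)).inv ≫ f.appLE ⊤ V le_top).hom

theorem str_apply (V : T.Opens) (a : R) :
    str f V a = (f.appLE ⊤ V le_top).hom ((Scheme.ΓSpecIso (CommRingCat.of R)).inv.hom a) := rfl

theorem map_str {U V : T.Opens} (h : V ≤ U) (a : R) :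
    (T.presheaf.map (homOfLE h).op).hom (str f U a) = str f V a := by
  rw [str_apply, str_apply]
  exact congr($(f.appLE_map (U := ⊤) le_top (homOfLE h).op) _)

theorem fromSpec_comp {V : T.Opens} (hV : IsAffineOpen V) :
    hV.fromSpec ≫ f = Spec.map (CommRingCat.ofHom (str f V)) := by
  rw [str, CommRingCat.ofHom_hom, Spec.map_comp,
    ← IsAffineOpen.SpecMap_appLE_fromSpec f (isAffineOpen_top _) hV le_top]
  congr 1
  rw [IsAffineOpen.fromSpec_top, Scheme.isoSpec_Spec_inv]

theorem flat_str [Flat f] {V : T.Opens} (hV : IsAffineOpen V) : (str f V).Flat := by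
  rw [str, CommRingCat.hom_comp]
  exact .comp (.of_bijective (ConcreteCategory.bijective_of_isIso _))
    (f.flat_appLE (isAffineOpen_top _) hV _)

/-- The ideal of a base change of a surjection of affine schemes. -/
theorem ker_app {S : Type u} [CommRing S] {φ : R →+* S} (hφ : Function.Surjective φ) {X : Scheme.{u}} {i : X ⟶ T}
    {x : X ⟶ Spec (CommRingCat.of S)} (h : IsPullback i x f (Spec.map (CommRingCat.ofHom φ)))
    (V : T.affineOpens) : RingHom.ker (i.app V.1).hom = (RingHom.ker φ).map (str f V.1) := by
  haveI : IsClosedImmersion (Spec.map (CommRingCat.ofHom φ)) := IsClosedImmersion.spec_of_surjective _ hφ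
  haveI : IsClosedImmersion i := MorphismProperty.of_isPullback (P := @IsClosedImmersion) h.flip inferInstance
  rw [← Scheme.Hom.ker_apply, ← h.isoPullback_hom_fst, Scheme.Hom.ker_comp_of_isIso,
    Scheme.IdealSheafData.ker_fst_of_isClosedImmersion, ker_specMap]
  exact GrothLib.DetRank12.ideal_comap_idealSheaf _ f V _ (fromSpec_comp f V.2)

end Str

variable {k : Type u} [Field k] {R : Type u} [CommRing R] {X T : Scheme.{u}}

/-- The hypotheses. -/
structure Setup (t : R) (res : R →+* k) (x : X ⟶ Spec (CommRingCat.of k)) (f : T ⟶ Spec (CommRingCat.of R))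
    (i : X ⟶ T) : Prop where
  surj : Function.Surjective res
  res_t : res t = 0
  t_mul : ∀ a, res a = 0 → t * a = 0
  res_eq_zero : ∀ a, t * a = 0 → res a = 0
  flat : Flat f
  isPullback : IsPullback i x f (Spec.map (CommRingCat.ofHom res))
  surjective : Surjective i

variable {t : R} {res : R →+* k} {x : X ⟶ Spec (CommRingCat.of k)} {f : T ⟶ Spec (CommRingCat.of R)} {i : X ⟶ T}

namespace Setup

variable (h : Setup t res x f i)

include h

theorem isClosedImmersion : IsClosedImmersion i :=
  haveI : IsClosedImmersion (Spec.map (CommRingCat.ofHom res)) := IsClosedImmersion.spec_of_surjective _ h.surj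
  MorphismProperty.of_isPullback (P := @IsClosedImmersion) h.isPullback.flip inferInstance

theorem app_surjective (V : T.affineOpens) : Function.Surjective (i.app V.1).hom :=
  haveI := h.isClosedImmersion
  i.app_surjective V.1 V.2

theorem app_str_eq_zero (V : T.affineOpens) {a : R} (ha : res a = 0) : (i.app V.1).hom (str f V.1 a) = 0 :=
  RingHom.mem_ker.1 (by rw [ker_app f h.surj h.isPullback V]; exact Ideal.mem_map_of_mem _ ha)

theorem t_sq : t * t = 0 := h.t_mul t h.res_t

theorem t_mul_of_app_eq_zero (V : T.affineOpens) {c : Γ(T, V.1)} (hc : (i.app V.1).hom c = 0) :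
    str f V.1 t * c = 0 := by
  have h1 : c ∈ (RingHom.ker res).map (str f V.1) := by rw [← ker_app f h.surj h.isPullback V]; exact hc
  refine (Ideal.span_le (I := LinearMap.ker (LinearMap.mulLeft Γ(T, V.1) (str f V.1 t)))).2 ?_ h1
  rintro _ ⟨a, ha, rfl⟩
  show str f V.1 t * str f V.1 a = 0
  rw [← map_mul, h.t_mul a ha, map_zero]

theorem app_eq_zero_of_t_mul (V : T.affineOpens) {c : Γ(T, V.1)} (hc : str f V.1 t * c = 0) :
    (i.app V.1).hom c = 0 := by
  haveI := h.flat
  letI := (str f V.1).toAlgebra
  haveI : Module.Flat R Γ(T, V.1) := flat_str f V.2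
  have h1 := GrothLib.DefLift.mem_colon_smul_top (⊥ : Ideal R) t (w := c) (by
    rw [show t • c = str f V.1 t * c from Algebra.smul_def t c, hc]; exact zero_mem _)
  have h2 : (Submodule.comap (LinearMap.mulLeft R t) (⊥ : Ideal R) : Ideal R) ≤ RingHom.ker res :=
    fun a ha => h.res_eq_zero a ha
  have h3 := Submodule.smul_mono_left h2 h1
  rw [Ideal.smul_top_eq_map, Submodule.restrictScalars_mem] at h3
  rw [← RingHom.mem_ker, ker_app f h.surj h.isPullback V]
  exact h3

theorem app_eq_iff (V : T.affineOpens) {c c' : Γ(T, V.1)} :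
    (i.app V.1).hom c = (i.app V.1).hom c' ↔ str f V.1 t * c = str f V.1 t * c' := by
  rw [← sub_eq_zero, ← map_sub, ← sub_eq_zero (a := str f V.1 t * c), ← mul_sub]
  exact ⟨h.t_mul_of_app_eq_zero V, h.app_eq_zero_of_t_mul V⟩

theorem isEmbedding_surjective : Function.Surjective i ∧ Topology.IsEmbedding i :=
  haveI := h.isClosedImmersion
  haveI := h.surjective
  ⟨i.surjective, i.isEmbedding⟩

end Setup

end GrothLib.DefAut26
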