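import Groth.Agent.Lib.DefAut26.Base
import Groth.Agent.Lib.PPGen.DescDer

/-!
# The derivation of an endomorphism which is trivial modulo `t`
-/

set_option autoImplicit false
set_option backward.isDefEq.respectTransparency false
universe u

noncomputable section

open CategoryTheory CategoryTheory.Limits AlgebraicGeometry TopologicalSpace Opposite

namespace GrothLib.DefAut26

variable {k : Type u} [Field k] {R : Type u} [CommRing R] {X T : Scheme.{u}}

/-- An endomorphism over `R`, the identity on the closed fibre and congruent to the identity modulo `t`. -/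
structure Triv (t : R) (f : T ⟶ Spec (CommRingCat.of R)) (i : X ⟶ T) (e : T ⟶ T) : Prop where
  hom_f : e ≫ f = f
  closed : i ≫ e = i
  le : ∀ V : T.Opens, V ≤ e ⁻¹ᵁ V
  exists_eq : ∀ (V : T.affineOpens) (b : Γ(T, V.1)), ∃ c : Γ(T, V.1),
    (e.appLE V.1 V.1 (le V.1)).hom b = b + str f V.1 t * c

theorem le_preimage {i : X ⟶ T} (hi : Function.Surjective i) {e : T ⟶ T} (he : i ≫ e = i) (V : T.Opens) :
    V ≤ e ⁻¹ᵁ V := fun z hz => by
  obtain ⟨y, rfl⟩ := hi z
  show e (i y) ∈ V
  rwa [← Scheme.Hom.comp_apply, he]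

/-- Restriction of functions. -/
abbrev res₂ (T : Scheme.{u}) {U V : T.Opens} (h : V ≤ U) (b : Γ(T, U)) : Γ(T, V) := (T.presheaf.map (homOfLE h).op).hom b

theorem res₂_res₂ (T : Scheme.{u}) {U V W : T.Opens} (h : V ≤ U) (h' : W ≤ V) (b : Γ(T, U)) :
    res₂ T h' (res₂ T h b) = res₂ T (h'.trans h) b := by
  show (T.presheaf.map _).hom ((T.presheaf.map _).hom b) = _
  rw [← ConcreteCategory.comp_apply, ← T.presheaf.map_comp]
  rfl

theorem app_res₂ (i : X ⟶ T) {U V : T.Opens} (h : V ≤ U) (b : Γ(T, U)) :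
    (i.app V).hom (res₂ T h b) = res₂ X (i.preimage_mono h) ((i.app U).hom b) :=
  congr($(i.naturality (homOfLE h).op) b)

theorem appLE_res₂ (e : T ⟶ T) {U V : T.Opens} (h : V ≤ U) (hU : U ≤ e ⁻¹ᵁ U) (hV : V ≤ e ⁻¹ᵁ V) (b : Γ(T, U)) :
    (e.appLE V V hV).hom (res₂ T h b) = res₂ T h ((e.appLE U U hU).hom b) := by
  show (e.appLE V V hV).hom ((T.presheaf.map _).hom b) = (T.presheaf.map _).hom ((e.appLE U U hU).hom b)
  rw [← ConcreteCategory.comp_apply, Scheme.Hom.map_appLE, ← ConcreteCategory.comp_apply, Scheme.Hom.appLE_map]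

theorem eq_of_res₂ (T : Scheme.{u}) {i : X ⟶ T} (hi : Function.Surjective i) {W : T.Opens}
    {a a' : Γ(X, i ⁻¹ᵁ W)} (h : ∀ (V : T.affineOpens) (hV : V.1 ≤ W),
      res₂ X (i.preimage_mono hV) a = res₂ X (i.preimage_mono hV) a') : a = a' := by
  refine TopCat.Sheaf.eq_of_locally_eq' X.sheaf (fun V : {V : T.affineOpens // V.1 ≤ W} => i ⁻¹ᵁ V.1.1)
    (i ⁻¹ᵁ W) (fun V => homOfLE (i.preimage_mono V.2)) (fun y hy => ?_) a a' fun V => h V.1 V.2
  obtain ⟨U, hU, hyU, hUW⟩ := exists_isAffineOpen_mem_and_subset (x := i y) (U := W) hy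
  exact Opens.mem_iSup.2 ⟨⟨⟨U, hU⟩, hUW⟩, hyU⟩

variable {t : R} {res : R →+* k} {x : X ⟶ Spec (CommRingCat.of k)} {f : T ⟶ Spec (CommRingCat.of R)} {i : X ⟶ T}

/-- `a` is the value at `b` of the derivation of `e`. -/
def Good (e : T ⟶ T) (he : Triv t f i e) (W : T.Opens) (b : Γ(T, W)) (a : Γ(X, i ⁻¹ᵁ W)) : Prop :=
  ∀ (V : T.affineOpens) (hV : V.1 ≤ W) (c : Γ(T, V.1)),
    (e.appLE V.1 V.1 (he.le V.1)).hom (res₂ T hV b) = res₂ T hV b + str f V.1 t * c →
      res₂ X (i.preimage_mono hV) a = (i.app V.1).hom c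

variable (h : Setup t res x f i) {e : T ⟶ T} (he : Triv t f i e)

include h

theorem good_unique {W : T.Opens} {b : Γ(T, W)} {a a' : Γ(X, i ⁻¹ᵁ W)} (ha : Good e he W b a)
    (ha' : Good e he W b a') : a = a' := eq_of_res₂ T h.isEmbedding_surjective.1 fun V hV => by
  obtain ⟨c, hc⟩ := he.exists_eq V (res₂ T hV b)
  rw [ha V hV c hc, ha' V hV c hc]

theorem exists_good (W : T.Opens) (b : Γ(T, W)) : ∃ a, Good e he W b a := by
  choose c hc using fun V : {V : T.affineOpens // V.1 ≤ W} => he.exists_eq V.1 (res₂ T V.2 b)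
  have key : ∀ (V : {V : T.affineOpens // V.1 ≤ W}) (V' : T.affineOpens) (hle : V'.1 ≤ V.1.1) (c' : Γ(T, V'.1)),
      (e.appLE V'.1 V'.1 (he.le V'.1)).hom (res₂ T (hle.trans V.2) b) =
        res₂ T (hle.trans V.2) b + str f V'.1 t * c' →
      res₂ X (i.preimage_mono hle) ((i.app V.1.1).hom (c V)) = (i.app V'.1).hom c' := by
    intro V V' hle c' hc'
    rw [← app_res₂ i hle, h.app_eq_iff]
    have h1 := congrArg (res₂ T hle) (hc V)
    rw [← appLE_res₂ e hle (he.le _) (he.le V'.1), res₂_res₂] at h1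
    simp only [res₂, map_add, map_mul, map_str] at h1
    rw [show (T.presheaf.map (homOfLE hle).op).hom (res₂ T V.2 b) = res₂ T (hle.trans V.2) b from res₂_res₂ T _ _ b]
      at h1
    exact add_left_cancel (h1.symm.trans hc')
  obtain ⟨a, ha, -⟩ := TopCat.Sheaf.existsUnique_gluing' X.sheaf
    (fun V : {V : T.affineOpens // V.1 ≤ W} => i ⁻¹ᵁ V.1.1) (i ⁻¹ᵁ W)
    (fun V => homOfLE (i.preimage_mono V.2)) (fun y hy => by
      obtain ⟨U, hU, hyU, hUW⟩ := exists_isAffineOpen_mem_and_subset (x := i y) (U := W) hy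
      exact Opens.mem_iSup.2 ⟨⟨⟨U, hU⟩, hUW⟩, hyU⟩)
    (fun V => (i.app V.1.1).hom (c V)) (fun V₁ V₂ => by
      show res₂ X inf_le_left ((i.app V₁.1.1).hom (c V₁)) = res₂ X inf_le_right ((i.app V₂.1.1).hom (c V₂))
      refine eq_of_res₂ (W := V₁.1.1 ⊓ V₂.1.1) T h.isEmbedding_surjective.1 fun V hV => ?_
      obtain ⟨d, hd⟩ := he.exists_eq V (res₂ T ((hV.trans inf_le_left).trans V₁.2) b)
      rw [res₂_res₂, res₂_res₂]
      exact (key V₁ V (hV.trans inf_le_left) d hd).trans (key V₂ V (hV.trans inf_le_right) d hd).symm)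
  refine ⟨a, fun V hV d hd => ?_⟩
  have h1 : res₂ X (i.preimage_mono hV) a = (i.app V.1).hom (c ⟨V, hV⟩) := ha ⟨V, hV⟩
  rw [h1, h.app_eq_iff]
  exact add_left_cancel ((hc ⟨V, hV⟩).symm.trans hd)

/-- The derivation on functions of `T`. -/
def val (W : T.Opens) (b : Γ(T, W)) : Γ(X, i ⁻¹ᵁ W) := (exists_good h he W b).choose

theorem good_val (W : T.Opens) (b : Γ(T, W)) : Good e he W b (val h he W b) := (exists_good h he W b).choose_spec

theorem val_eq (W : T.Opens) {b : Γ(T, W)} {a : Γ(X, i ⁻¹ᵁ W)} (ha : Good e he W b a) : val h he W b = a :=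
  good_unique h he (good_val h he W b) ha

theorem val_affine (V : T.affineOpens) {b c : Γ(T, V.1)}
    (hc : (e.appLE V.1 V.1 (he.le V.1)).hom b = b + str f V.1 t * c) : val h he V.1 b = (i.app V.1).hom c := by
  have h1 := good_val h he V.1 b V le_rfl c (by simpa [res₂] using hc)
  simpa [res₂] using h1

theorem val_res₂ {W W' : T.Opens} (hle : W' ≤ W) (b : Γ(T, W)) :
    val h he W' (res₂ T hle b) = res₂ X (i.preimage_mono hle) (val h he W b) := by
  refine val_eq h he W' fun V hV c hc => ?_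
  rw [res₂_res₂] at hc
  rw [res₂_res₂]
  exact good_val h he W b V (hV.trans hle) c hc

theorem val_add (W : T.Opens) (b b' : Γ(T, W)) : val h he W (b + b') = val h he W b + val h he W b' := by
  refine val_eq h he W fun V hV c hc => ?_
  obtain ⟨c₁, h₁⟩ := he.exists_eq V (res₂ T hV b)
  obtain ⟨c₂, h₂⟩ := he.exists_eq V (res₂ T hV b')
  simp only [res₂, map_add] at hc ⊢
  rw [show (X.presheaf.map _).hom (val h he W b) = _ from good_val h he W b V hV c₁ h₁,
    show (X.presheaf.map _).hom (val h he W b') = _ from good_val h he W b' V hV c₂ h₂, ← map_add, h.app_eq_iff]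
  linear_combination hc - h₁ - h₂

theorem val_mul (W : T.Opens) (b b' : Γ(T, W)) : val h he W (b * b') =
    (i.app W).hom b * val h he W b' + (i.app W).hom b' * val h he W b := by
  refine val_eq h he W fun V hV c hc => ?_
  obtain ⟨c₁, h₁⟩ := he.exists_eq V (res₂ T hV b)
  obtain ⟨c₂, h₂⟩ := he.exists_eq V (res₂ T hV b')
  have htsq : str f V.1 t * str f V.1 t = 0 := by rw [← map_mul, h.t_sq, map_zero]
  simp only [res₂, map_add, map_mul] at hc h₁ h₂ ⊢
  rw [show (X.presheaf.map _).hom (val h he W b) = _ from good_val h he W b V hV c₁ h₁,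
    show (X.presheaf.map _).hom (val h he W b') = _ from good_val h he W b' V hV c₂ h₂,
    show (X.presheaf.map (homOfLE (i.preimage_mono hV)).op).hom ((i.app W).hom b) = _ from (app_res₂ i hV b).symm,
    show (X.presheaf.map (homOfLE (i.preimage_mono hV)).op).hom ((i.app W).hom b') = _ from (app_res₂ i hV b').symm,
    ← map_mul, ← map_mul, ← map_add, h.app_eq_iff]
  rw [h₁, h₂] at hc
  simp only [res₂] at hc ⊢
  linear_combination hc - c₁ * c₂ * htsq

theorem val_eq_zero_of_app (W : T.Opens) (b : Γ(T, W)) (hb : (i.app W).hom b = 0) : val h he W b = 0 := by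
  refine val_eq h he W fun V hV c hc => ?_
  have hbV : (i.app V.1).hom (res₂ T hV b) = 0 := by rw [app_res₂, hb]; exact map_zero _
  have hm : res₂ T hV b ∈ (RingHom.ker res).map (str f V.1) := by
    rw [← ker_app f h.surj h.isPullback V]; exact hbV
  have hfix : ∀ a, (e.appLE V.1 V.1 (he.le V.1)).hom (str f V.1 a) = str f V.1 a := fun a => by
    rw [str_apply, ← ConcreteCategory.comp_apply, Scheme.Hom.appLE_comp_appLE]
    simp only [he.hom_f]
  have h0 : ∀ y ∈ (RingHom.ker res).map (str f V.1), (e.appLE V.1 V.1 (he.le V.1)).hom y = y := by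
    intro y hy
    induction hy using Submodule.span_induction with
    | mem z hz =>
      obtain ⟨a, -, rfl⟩ := hz
      exact hfix a
    | zero => exact map_zero _
    | add p q _ _ hp hq => rw [map_add, hp, hq]
    | smul r p hp hpe =>
      obtain ⟨d, hd⟩ := he.exists_eq V r
      rw [smul_eq_mul, map_mul, hpe, hd, add_mul, mul_right_comm,
        h.t_mul_of_app_eq_zero V (c := p) (RingHom.mem_ker.1 (by
          rw [ker_app f h.surj h.isPullback V]; exact hp)), zero_mul, add_zero]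
  rw [h0 _ hm] at hc
  simp only [res₂, map_zero]
  exact (h.app_eq_zero_of_t_mul V (add_eq_left.1 hc.symm)).symm

theorem val_app (V : (Spec (CommRingCat.of R)).Opens) (a : Γ(Spec (CommRingCat.of R), V)) :
    val h he (f ⁻¹ᵁ V) ((f.app V).hom a) = 0 := by
  refine val_eq h he _ fun U hU c hc => ?_
  have h1 : (e.appLE U.1 U.1 (he.le U.1)).hom (res₂ T hU ((f.app V).hom a)) = res₂ T hU ((f.app V).hom a) := by
    show (e.appLE U.1 U.1 _).hom ((T.presheaf.map _).hom ((f.app V).hom a)) =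
      (T.presheaf.map _).hom ((f.app V).hom a)
    rw [← ConcreteCategory.comp_apply (f.app V), ← Scheme.Hom.appLE, ← ConcreteCategory.comp_apply,
      Scheme.Hom.appLE_comp_appLE]
    simp only [he.hom_f]
  rw [h1] at hc
  simp only [res₂, map_zero]
  exact (h.app_eq_zero_of_t_mul U (add_eq_left.1 hc.symm)).symm

/-- The derivation of an endomorphism trivial modulo `t`. -/
theorem exists_der :
    ∃ δ : OmegaSh.Der (i ≫ f) (Coh.structureModule X), ∀ (W : T.Opens) (b : Γ(T, W)),
      δ.app (i ⁻¹ᵁ W) ((i.app W).hom b) = OmegaSh.strSect X _ (val h he W b) := by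
  haveI := h.isClosedImmersion
  refine GrothLib.PPGen.exists_descend i f (Coh.structureModule X)
    (fun W => (OmegaSh.strSect X _).comp (AddMonoidHom.mk' (val h he W) (val_add h he W))) ?_ ?_ ?_ ?_
  · intro W W' hle b
    exact (congrArg (OmegaSh.strSect X _) (val_res₂ h he hle b)).trans
      (OmegaSh.strSect_map (i ⁻¹ᵁ W) (i.preimage_mono hle) _)
  · intro W b hb
    exact (congrArg (OmegaSh.strSect X _) (val_eq_zero_of_app h he W b hb)).trans (map_zero _)
  · intro W a b
    exact (congrArg (OmegaSh.strSect X _) (val_mul h he W a b)).trans (map_add _ _ _)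
  · intro V a
    exact (congrArg (OmegaSh.strSect X _) (val_app h he V a)).trans (map_zero _)

end GrothLib.DefAut26
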