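import Groth.Agent.Lib.DefAut26.Der
import Groth.Agent.Lib.PPGen.DiffBasic
import Groth.Agent.S5005
import Mathlib.AlgebraicGeometry.Cover.Directed

/-!
# Endomorphisms trivial modulo `t` are the maps `Ω → O` of the closed fibre
-/

set_option autoImplicit false
set_option backward.isDefEq.respectTransparency false
universe u

noncomputable section

open CategoryTheory CategoryTheory.Limits AlgebraicGeometry TopologicalSpace Opposite

namespace GrothLib.DefAut26

variable {k : Type u} [Field k] {R : Type u} [CommRing R] {X T : Scheme.{u}}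
variable {t : R} {res : R →+* k} {x : X ⟶ Spec (CommRingCat.of k)} {f : T ⟶ Spec (CommRingCat.of R)} {i : X ⟶ T}

theorem opens_spec_field (V : (Spec (CommRingCat.of k)).Opens) : V = ⊤ ∨ V = ⊥ := by
  rcases Set.eq_empty_or_nonempty (V : Set (Spec (CommRingCat.of k))) with h | ⟨p, hp⟩
  · exact Or.inr (Opens.ext h)
  · refine Or.inl (top_unique fun q _ => ?_)
    haveI : Subsingleton (Spec (CommRingCat.of k)) := inferInstanceAs (Subsingleton (PrimeSpectrum k))
    rwa [Subsingleton.elim q p]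

theorem subsingleton_empty {U : X.Opens} (hU : ∀ y, y ∉ U) : Subsingleton Γ(X, U) :=
  ⟨fun a b => TopCat.Sheaf.eq_of_locally_eq' X.sheaf (fun e : PEmpty.{u + 1} => e.elim) U (fun e => e.elim)
    (fun y hy => (hU y hy).elim) a b fun e => e.elim⟩

/-- Functions pulled back around a commutative square. -/
theorem appLE_comm {A B C D : Scheme.{u}} {a : A ⟶ B} {b : B ⟶ D} {c : A ⟶ C} {d : C ⟶ D} (w : a ≫ b = c ≫ d)
    (U : D.Opens) (V : B.Opens) (V' : C.Opens) (W : A.Opens) (e₁ : V ≤ b ⁻¹ᵁ U) (e₂ : W ≤ a ⁻¹ᵁ V)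
    (e₃ : V' ≤ d ⁻¹ᵁ U) (e₄ : W ≤ c ⁻¹ᵁ V') (s : Γ(D, U)) :
    (a.appLE V W e₂).hom ((b.appLE U V e₁).hom s) = (c.appLE V' W e₄).hom ((d.appLE U V' e₃).hom s) := by
  rw [← ConcreteCategory.comp_apply, ← ConcreteCategory.comp_apply, Scheme.Hom.appLE_comp_appLE,
    Scheme.Hom.appLE_comp_appLE]
  simp only [w]

/-- A linear map out of the differentials gives the derivation of `e`. -/
def Corr [QuasiSeparated x] (h : Setup t res x f i) {e : T ⟶ T} (he : Triv t f i e)
    (α : Omega.sheaf x ⟶ Coh.structureModule X) : Prop :=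
  ∀ (W : T.Opens) (b : Γ(T, W)),
    α.app (i ⁻¹ᵁ W) ((OmegaSh.dOmega x).app (i ⁻¹ᵁ W) ((i.app W).hom b)) = OmegaSh.strSect X _ (val h he W b)

theorem ext_on_affine {e e' : T ⟶ T} (he : ∀ V : T.Opens, V ≤ e ⁻¹ᵁ V) (he' : ∀ V : T.Opens, V ≤ e' ⁻¹ᵁ V)
    (h : ∀ V : T.affineOpens, e.appLE V.1 V.1 (he V.1) = e'.appLE V.1 V.1 (he' V.1)) : e = e' := by
  refine Scheme.Cover.hom_ext T.directedAffineCover _ _ fun V => ?_
  show V.1.ι ≫ e = V.1.ι ≫ e'
  rw [← cancel_epi V.2.isoSpec.inv, IsAffineOpen.isoSpec_inv_ι_assoc, IsAffineOpen.isoSpec_inv_ι_assoc,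
    ← IsAffineOpen.SpecMap_appLE_fromSpec e V.2 V.2 (he V.1),
    ← IsAffineOpen.SpecMap_appLE_fromSpec e' V.2 V.2 (he' V.1), h]

variable (h : Setup t res x f i)

include h

theorem exists_derX {e : T ⟶ T} (he : Triv t f i e) : ∃ D : OmegaSh.Der x (Coh.structureModule X),
    ∀ (W : T.Opens) (b : Γ(T, W)), D.app (i ⁻¹ᵁ W) ((i.app W).hom b) = OmegaSh.strSect X _ (val h he W b) := by
  obtain ⟨δ, hδ⟩ := exists_der h he
  haveI : IsClosedImmersion (Spec.map (CommRingCat.ofHom res)) := IsClosedImmersion.spec_of_surjective _ h.surj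
  refine ⟨{ d := fun {U} => δ.app U.unop
            d_mul := fun {U} a b => δ.d_mul a b
            d_map := fun {U V} j s => δ.d_map j s
            d_app := fun {V} c => ?_ }, hδ⟩
  obtain ⟨V⟩ := V
  show δ.app (x ⁻¹ᵁ V) ((x.app V).hom c) = 0
  rcases opens_spec_field V with rfl | rfl
  · obtain ⟨a, rfl⟩ := Scheme.Hom.app_surjective (Spec.map (CommRingCat.ofHom res)) ⊤ (isAffineOpen_top _) c
    have e1 : (x.app ⊤).hom (((Spec.map (CommRingCat.ofHom res)).app ⊤).hom a) = ((i ≫ f).app ⊤).hom a := by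
      have h1 := congr($(Scheme.Hom.congr_app h.isPullback.w ⊤) a)
      simpa using h1.symm
    show δ.app ⊤ ((x.app ⊤).hom (((Spec.map (CommRingCat.ofHom res)).app ⊤).hom a)) = 0
    rw [e1]
    exact δ.d_app (X := op ⊤) a
  · haveI := subsingleton_empty (X := X) (U := x ⁻¹ᵁ ⊥) fun y hy => hy
    rw [Subsingleton.elim ((x.app ⊥).hom c) 0, map_zero]

theorem der_ext {D D' : OmegaSh.Der x (Coh.structureModule X)}
    (hD : ∀ (W : T.Opens) (b : Γ(T, W)), D.app (i ⁻¹ᵁ W) ((i.app W).hom b) = D'.app (i ⁻¹ᵁ W) ((i.app W).hom b))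
    (U : X.Opens) (s : Γ(X, U)) : D.app U s = D'.app U s := by
  obtain ⟨hs, hemb⟩ := h.isEmbedding_surjective
  obtain ⟨W, hW, eW⟩ := hemb.isInducing.isOpen_iff.1 U.2
  obtain rfl : U = i ⁻¹ᵁ ⟨W, hW⟩ := (Opens.ext eW).symm
  refine eq_of_res₂ T hs (W := ⟨W, hW⟩) (a := D.app _ s) (a' := D'.app _ s) fun V hV => ?_
  obtain ⟨b, hb⟩ := h.app_surjective V (res₂ X (i.preimage_mono hV) s)
  calc res₂ X (i.preimage_mono hV) (D.app _ s)
      = D.app (i ⁻¹ᵁ V.1) (res₂ X (i.preimage_mono hV) s) := (D.d_map (homOfLE (i.preimage_mono hV)).op s).symm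
    _ = D'.app (i ⁻¹ᵁ V.1) (res₂ X (i.preimage_mono hV) s) := by rw [← hb, hD]
    _ = res₂ X (i.preimage_mono hV) (D'.app _ s) := D'.d_map (homOfLE (i.preimage_mono hV)).op s

theorem existsUnique_corr [QuasiSeparated x] {e : T ⟶ T} (he : Triv t f i e) : ∃! α, Corr h he α := by
  obtain ⟨D, hD⟩ := exists_derX h he
  obtain ⟨α, hα, -⟩ := Groth.Agent.S5005.result x (Coh.structureModule X) D
  refine ⟨α, fun W b => ?_, fun β hβ => ?_⟩
  · rw [← hD W b, ← hα]; rfl
  · refine GrothLib.PPGen.hom_ext_universal (Groth.Agent.S5005.result x) _ _ fun U s => ?_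
    exact der_ext h (D := (OmegaSh.dOmega x).postcomp β.val) (D' := (OmegaSh.dOmega x).postcomp α.val)
      (fun W b => (hβ W b).trans ((hD W b).symm.trans (by rw [← hα]))) U s

theorem eq_of_corr [QuasiSeparated x] {e e' : T ⟶ T} (he : Triv t f i e) (he' : Triv t f i e')
    {α : Omega.sheaf x ⟶ Coh.structureModule X} (hα : Corr h he α) (hα' : Corr h he' α) : e = e' := by
  refine ext_on_affine he.le he'.le fun V => CommRingCat.hom_ext (RingHom.ext fun b => ?_)
  obtain ⟨c, hc⟩ := he.exists_eq V b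
  obtain ⟨c', hc'⟩ := he'.exists_eq V b
  have h1 : val h he V.1 b = val h he' V.1 b := (hα V.1 b).symm.trans (hα' V.1 b)
  rw [val_affine h he V hc, val_affine h he' V hc', h.app_eq_iff] at h1
  rw [hc, hc', h1]

/-- The functions on an affine open moved by a linear map out of the differentials. -/
theorem exists_twist [QuasiSeparated x] (α : Omega.sheaf x ⟶ Coh.structureModule X) :
    ∃ θ : ∀ V : T.affineOpens, Γ(T, V.1) →+* Γ(T, V.1),
      ∀ (V : T.affineOpens) (b : Γ(T, V.1)), ∃ c, θ V b = b + str f V.1 t * c ∧ (i.app V.1).hom c =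
        OmegaSh.fnSect X _ (α.app (i ⁻¹ᵁ V.1) ((OmegaSh.dOmega x).app (i ⁻¹ᵁ V.1) ((i.app V.1).hom b))) := by
  choose L hL using fun V : T.affineOpens => h.app_surjective V
  let D : OmegaSh.Der x (Coh.structureModule X) := (OmegaSh.dOmega x).postcomp α.val
  let d : ∀ V : T.affineOpens, Γ(T, V.1) → Γ(T, V.1) := fun V b =>
    L V (OmegaSh.fnSect X _ (D.app (i ⁻¹ᵁ V.1) ((i.app V.1).hom b)))
  have hd : ∀ V b, (i.app V.1).hom (d V b) = OmegaSh.fnSect X _ (D.app (i ⁻¹ᵁ V.1) ((i.app V.1).hom b)) :=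
    fun V b => hL V _
  have hmul : ∀ V a b, str f V.1 t * d V (a * b) = str f V.1 t * (a * d V b + b * d V a) := fun V a b => by
    rw [← h.app_eq_iff, map_add, map_mul, map_mul, hd, hd, hd, map_mul]
    exact (congrArg (OmegaSh.fnSect X _) (D.d_mul _ _)).trans (map_add _ _ _)
  have hadd : ∀ V a b, str f V.1 t * d V (a + b) = str f V.1 t * (d V a + d V b) := fun V a b => by
    rw [← h.app_eq_iff, map_add, hd, hd, hd, map_add, map_add, map_add]
  have htsq : ∀ V : T.affineOpens, str f V.1 t * str f V.1 t = 0 := fun V => by rw [← map_mul, h.t_sq, map_zero]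
  refine ⟨fun V =>
    { toFun := fun b => b + str f V.1 t * d V b
      map_one' := by
        have h1 := hmul V 1 1
        rw [one_mul, one_mul, mul_add] at h1
        rw [add_eq_left]
        linear_combination -h1
      map_mul' := fun a b => by
        linear_combination hmul V a b - d V a * d V b * htsq V
      map_zero' := by
        have h1 := hadd V 0 0
        rw [zero_add, mul_add] at h1
        rw [zero_add]
        linear_combination -h1
      map_add' := fun a b => by linear_combination hadd V a b }, fun V b => ⟨d V b, rfl, hd V b⟩⟩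

/-- Every linear map out of the differentials comes from an endomorphism. -/
theorem exists_triv [QuasiSeparated x] (α : Omega.sheaf x ⟶ Coh.structureModule X) :
    ∃ (e : T ⟶ T) (he : Triv t f i e), Corr h he α := by
  obtain ⟨θ, hθ⟩ := exists_twist h α
  let D : OmegaSh.Der x (Coh.structureModule X) := (OmegaSh.dOmega x).postcomp α.val
  choose d hd₁ hd₂ using hθ
  have hnat : ∀ {U V : T.affineOpens} (hle : U.1 ≤ V.1) (b : Γ(T, V.1)),
      res₂ T hle (θ V b) = θ U (res₂ T hle b) := by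
    intro U V hle b
    rw [hd₁, hd₁]
    simp only [res₂, map_add, map_mul, map_str]
    congr 1
    rw [← h.app_eq_iff]
    show (i.app U.1).hom (res₂ T hle (d V b)) = (i.app U.1).hom (d U (res₂ T hle b))
    rw [app_res₂, hd₂, hd₂, app_res₂]
    exact ((congrArg (OmegaSh.fnSect X _) (D.d_map (homOfLE (i.preimage_mono hle)).op _)).trans rfl).symm
  have hstr : ∀ (V : T.affineOpens) (a : R), θ V (str f V.1 a) = str f V.1 a := fun V a => by
    rw [hd₁, add_eq_left]
    refine h.t_mul_of_app_eq_zero V ?_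
    rw [hd₂]
    have h1 : (i.app V.1).hom (str f V.1 a) = res₂ X (le_top : i ⁻¹ᵁ V.1 ≤ x ⁻¹ᵁ ⊤)
        ((x.app ⊤).hom ((Scheme.ΓSpecIso (CommRingCat.of k)).inv.hom (res a))) := by
      rw [str_apply, show (Scheme.ΓSpecIso (CommRingCat.of k)).inv.hom (res a) =
        ((Spec.map (CommRingCat.ofHom res)).appLE ⊤ ⊤ le_top).hom ((Scheme.ΓSpecIso _).inv.hom a) from
          (congr($(Scheme.ΓSpecIso_inv_naturality (CommRingCat.ofHom res)) a)).trans
            (by rw [Scheme.Hom.appTop, Scheme.Hom.app_eq_appLE]; rfl)]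
      show _ = (X.presheaf.map _).hom _
      rw [Scheme.Hom.app_eq_appLE, Scheme.Hom.app_eq_appLE]
      refine Eq.trans (appLE_comm h.isPullback.w ⊤ V.1 ⊤ (i ⁻¹ᵁ V.1) le_top le_rfl le_top le_top _) ?_
      exact (congr($(x.appLE_map (U := ⊤) le_rfl (homOfLE (le_top : i ⁻¹ᵁ V.1 ≤ x ⁻¹ᵁ ⊤)).op) _)).symm
    rw [h1]
    refine (congrArg (OmegaSh.fnSect X _) ((D.d_map (homOfLE (le_top : i ⁻¹ᵁ V.1 ≤ x ⁻¹ᵁ ⊤)).op _))).trans ?_
    erw [D.d_app (X := op ⊤)]
    exact (congrArg (OmegaSh.fnSect X _) (map_zero _)).trans (map_zero _)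
  let F : ∀ V : T.affineOpens, (V.1 : Scheme.{u}) ⟶ T := fun V =>
    V.1.toSpecΓ ≫ Spec.map (CommRingCat.ofHom (θ V)) ≫ V.2.fromSpec
  have hF : ∀ {U V : T.affineOpens} (hle : U ≤ V), T.homOfLE hle ≫ F V = F U := by
    intro U V hle
    show _ ≫ V.1.toSpecΓ ≫ _ = U.1.toSpecΓ ≫ _
    rw [← Scheme.Opens.toSpecΓ_SpecMap_presheaf_map_assoc U.1 V.1 hle, ← Spec.map_comp_assoc]
    congr 1
    rw [← IsAffineOpen.map_fromSpec V.2 U.2 (homOfLE hle).op, ← Spec.map_comp_assoc]
    congr 2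
    exact CommRingCat.hom_ext (RingHom.ext fun b => hnat hle b)
  let e : T ⟶ T := Scheme.OpenCover.glueMorphismsOfLocallyDirected T.directedAffineCover F
    fun {U V} hij => hF (leOfHom hij)
  have heF : ∀ V : T.affineOpens, V.1.ι ≫ e = F V :=
    fun V => Scheme.OpenCover.map_glueMorphismsOfLocallyDirected T.directedAffineCover F
      (fun {U W} hij => hF (leOfHom hij)) V
  have hfs : ∀ V : T.affineOpens, V.2.fromSpec ≫ e = Spec.map (CommRingCat.ofHom (θ V)) ≫ V.2.fromSpec :=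
    fun V => by
      rw [← IsAffineOpen.isoSpec_inv_ι, Category.assoc, heF]
      show V.2.isoSpec.inv ≫ V.1.toSpecΓ ≫ _ = _
      rw [← IsAffineOpen.isoSpec_hom V.2, Iso.inv_hom_id_assoc, IsAffineOpen.isoSpec_inv_ι]
  have hover : e ≫ f = f := by
    refine Scheme.Cover.hom_ext T.directedAffineCover _ _ fun V => ?_
    show V.1.ι ≫ _ = V.1.ι ≫ _
    rw [← cancel_epi V.2.isoSpec.inv, IsAffineOpen.isoSpec_inv_ι_assoc, IsAffineOpen.isoSpec_inv_ι_assoc,
      ← Category.assoc, hfs, Category.assoc, fromSpec_comp f V.2, ← Spec.map_comp]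
    congr 1
    exact CommRingCat.hom_ext (RingHom.ext fun a => hstr V a)
  have hclosed : i ≫ e = i := by
    haveI := h.isClosedImmersion
    let 𝒰 : X.OpenCover := X.openCoverOfIsOpenCover (fun V : T.affineOpens => i ⁻¹ᵁ V.1) (by
      refine IsOpenCover.mk (top_unique fun y _ => ?_)
      obtain ⟨U, hU, hyU, -⟩ := exists_isAffineOpen_mem_and_subset (x := i y) (U := ⊤) trivial
      exact Opens.mem_iSup.2 ⟨⟨U, hU⟩, hyU⟩)
    refine Scheme.Cover.hom_ext 𝒰 _ _ fun V => ?_
    have hV : IsAffineOpen (i ⁻¹ᵁ V.1) := V.2.preimage i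
    show (i ⁻¹ᵁ V.1).ι ≫ i ≫ e = (i ⁻¹ᵁ V.1).ι ≫ i
    rw [← cancel_epi hV.isoSpec.inv, IsAffineOpen.isoSpec_inv_ι_assoc, IsAffineOpen.isoSpec_inv_ι_assoc,
      ← Category.assoc, ← IsAffineOpen.SpecMap_appLE_fromSpec i V.2 hV le_rfl, Category.assoc, hfs,
      ← Spec.map_comp_assoc]
    congr 2
    refine CommRingCat.hom_ext (RingHom.ext fun b => ?_)
    show (i.appLE V.1 (i ⁻¹ᵁ V.1) le_rfl).hom (θ V b) = (i.appLE V.1 (i ⁻¹ᵁ V.1) le_rfl).hom b
    rw [← Scheme.Hom.app_eq_appLE, hd₁, map_add, map_mul, h.app_str_eq_zero V h.res_t, zero_mul, add_zero]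
  have hle : ∀ V : T.Opens, V ≤ e ⁻¹ᵁ V := le_preimage h.isEmbedding_surjective.1 hclosed
  have happ : ∀ V : T.affineOpens, e.appLE V.1 V.1 (hle V.1) = CommRingCat.ofHom (θ V) := fun V => by
    refine Spec.map_injective ((cancel_mono V.2.fromSpec).1 ?_)
    rw [IsAffineOpen.SpecMap_appLE_fromSpec e V.2 V.2 (hle V.1), hfs]
  have he : Triv t f i e := ⟨hover, hclosed, hle, fun V b => ⟨d V b, by rw [happ]; exact hd₁ V b⟩⟩
  refine ⟨e, he, fun W b => ?_⟩
  have hgood : Good e he W b (OmegaSh.fnSect X _ (D.app (i ⁻¹ᵁ W) ((i.app W).hom b))) := by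
    intro V hV c hc
    rw [happ] at hc
    have h1 : str f V.1 t * c = str f V.1 t * d V (res₂ T hV b) :=
      add_left_cancel (hc.symm.trans (hd₁ V _))
    rw [(h.app_eq_iff V).2 h1, hd₂, app_res₂]
    exact ((congrArg (OmegaSh.fnSect X _) (D.d_map (homOfLE (i.preimage_mono hV)).op _)).trans rfl).symm
  rw [val_eq h he W hgood]
  rfl

theorem triv_id : Triv t f i (𝟙 T) :=
  ⟨Category.id_comp _, Category.comp_id _, fun _ => le_rfl, fun V b => ⟨0, by
    simp [Scheme.Hom.appLE]; erw [T.presheaf.map_id]; rfl⟩⟩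

theorem triv_comp {e e' : T ⟶ T} (he : Triv t f i e) (he' : Triv t f i e') : Triv t f i (e ≫ e') :=
  ⟨by rw [Category.assoc, he'.hom_f, he.hom_f], by rw [← Category.assoc, he.closed, he'.closed],
    fun V => (he.le V).trans (e.preimage_mono (he'.le V)), fun V b => by
      obtain ⟨c, hc⟩ := he'.exists_eq V b
      obtain ⟨c', hc'⟩ := he.exists_eq V b
      obtain ⟨c'', hc''⟩ := he.exists_eq V c
      have hfix : (e.appLE V.1 V.1 (he.le V.1)).hom (str f V.1 t) = str f V.1 t := by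
        rw [str_apply, ← ConcreteCategory.comp_apply, Scheme.Hom.appLE_comp_appLE]
        simp only [he.hom_f]
      refine ⟨c' + c, ?_⟩
      rw [← Scheme.Hom.appLE_comp_appLE e e' V.1 V.1 V.1 (he'.le V.1) (he.le V.1), CommRingCat.comp_apply, hc,
        map_add, map_mul, hc', hc'', hfix, mul_add, ← mul_assoc, ← map_mul, h.t_sq, map_zero, zero_mul, add_zero,
        add_assoc, mul_add]⟩

theorem corr_comp [QuasiSeparated x] {e e' : T ⟶ T} (he : Triv t f i e) (he' : Triv t f i e')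
    {α α' : Omega.sheaf x ⟶ Coh.structureModule X} (hα : Corr h he α) (hα' : Corr h he' α') :
    Corr h (triv_comp h he he') (α + α') := by
  intro W b
  show α.app _ _ + α'.app _ _ = _
  rw [hα, hα', ← map_add]
  refine congrArg _ (val_eq h _ W fun V hV c hc => ?_).symm
  obtain ⟨c₁, h₁⟩ := he.exists_eq V (res₂ T hV b)
  obtain ⟨c₂, h₂⟩ := he'.exists_eq V (res₂ T hV b)
  obtain ⟨c₃, h₃⟩ := he.exists_eq V c₂
  have hfix : (e.appLE V.1 V.1 (he.le V.1)).hom (str f V.1 t) = str f V.1 t := by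
    rw [str_apply, ← ConcreteCategory.comp_apply, Scheme.Hom.appLE_comp_appLE]
    simp only [he.hom_f]
  have htsq : str f V.1 t * str f V.1 t = 0 := by rw [← map_mul, h.t_sq, map_zero]
  rw [← Scheme.Hom.appLE_comp_appLE e e' V.1 V.1 V.1 (he'.le V.1) (he.le V.1), CommRingCat.comp_apply, h₂,
    map_add, map_mul, h₁, h₃, hfix] at hc
  simp only [res₂, map_add] at hc ⊢
  rw [show (X.presheaf.map _).hom (val h he W b) = _ from good_val h he W b V hV c₁ h₁,
    show (X.presheaf.map _).hom (val h he' W b) = _ from good_val h he' W b V hV c₂ h₂, ← map_add, h.app_eq_iff]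
  linear_combination hc - c₃ * htsq

theorem eq_id_of_subsingleton [QuasiSeparated x] [Subsingleton (Omega.sheaf x ⟶ Coh.structureModule X)]
    {e : T ⟶ T} (he : Triv t f i e) : e = 𝟙 T := by
  obtain ⟨α, hα, -⟩ := existsUnique_corr h he
  obtain ⟨β, hβ, -⟩ := existsUnique_corr h (triv_id h)
  obtain rfl := Subsingleton.elim β α
  exact eq_of_corr h he (triv_id h) hα hβ

/-- The endomorphisms trivial modulo `t`, with composition, are the linear maps `Ω → O` of the closed fibre. -/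
theorem exists_equiv [QuasiSeparated x] :
    ∃ E : {e : T ⟶ T // Triv t f i e} ≃ (Omega.sheaf x ⟶ Coh.structureModule X),
      ∀ a b c : {e : T ⟶ T // Triv t f i e}, a.1 ≫ b.1 = c.1 → E c = E a + E b := by
  choose E hE hEu using fun a : {e : T ⟶ T // Triv t f i e} => existsUnique_corr h a.2
  have hinj : Function.Injective E := fun a b hab => Subtype.ext (eq_of_corr h a.2 b.2 (hE a) (hab ▸ hE b))
  have hsurj : Function.Surjective E := fun α => by
    obtain ⟨e, he, hα⟩ := exists_triv h α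
    exact ⟨⟨e, he⟩, (hEu ⟨e, he⟩ α hα).symm⟩
  refine ⟨Equiv.ofBijective E ⟨hinj, hsurj⟩, fun a b c habc => ?_⟩
  obtain ⟨c, hc⟩ := c
  obtain rfl : a.1 ≫ b.1 = c := habc
  exact (hEu ⟨_, hc⟩ _ (corr_comp h a.2 b.2 (hE a) (hE b))).symm

theorem isIso_of_triv [QuasiSeparated x] {e : T ⟶ T} (he : Triv t f i e) : IsIso e := by
  obtain ⟨α, hα, -⟩ := existsUnique_corr h he
  obtain ⟨e', he', hα'⟩ := exists_triv h (-α)
  obtain ⟨β, hβ, -⟩ := existsUnique_corr h (triv_id h)
  have hβ0 : β = 0 := by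
    have h1 := corr_comp h (triv_id h) (triv_id h) hβ hβ
    have h2 : Corr h (triv_id h) (β + β) := by simpa [Category.id_comp] using h1
    simpa using (existsUnique_corr h (triv_id h)).unique h2 hβ
  subst hβ0
  refine ⟨⟨e', eq_of_corr h (triv_comp h he he') (triv_id h) (by simpa using corr_comp h he he' hα hα') hβ,
    eq_of_corr h (triv_comp h he' he) (triv_id h) (by simpa using corr_comp h he' he hα' hα) hβ⟩⟩

end GrothLib.DefAut26
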